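/-
Irredundant bases: constant size is equivalent to invariance under reordering.
-/
import Mathlib

set_option autoImplicit false

namespace CfsgLib.Ibis

variable {G Ω : Type*} [Group G] [MulAction G Ω]

/-- `f` is a base. -/
def IsBaseSeq (G : Type*) [Group G] [MulAction G Ω] {t : ℕ} (f : Fin t → Ω) : Prop :=
  ∀ g : G, (∀ i, g • f i = f i) → g = 1

/-- Every point of `f` is moved by the stabiliser of the earlier points. -/
def IsIrredSeq (G : Type*) [Group G] [MulAction G Ω] {t : ℕ} (f : Fin t → Ω) : Prop :=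
  ∀ i, ∃ g : G, (∀ j, j < i → g • f j = f j) ∧ g • f i ≠ f i

/-- An irredundant base. -/
def IsIrredBase (G : Type*) [Group G] [MulAction G Ω] {t : ℕ} (f : Fin t → Ω) : Prop :=
  IsBaseSeq G f ∧ IsIrredSeq G f

/-- A base (as a finite set) from which no point can be deleted. -/
def IsMinBase (G : Type*) [Group G] [MulAction G Ω] (s : Finset Ω) : Prop :=
  (∀ g : G, (∀ x ∈ s, g • x = x) → g = 1) ∧
    ∀ x ∈ s, ∃ g : G, (∀ z ∈ s, z ≠ x → g • z = z) ∧ g • x ≠ x

lemma injective_of_isIrredSeq {t : ℕ} {f : Fin t → Ω} (h : IsIrredSeq G f) : Function.Injective f := by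
  intro i j hij
  by_contra hne
  rcases lt_or_gt_of_ne hne with hlt | hlt
  · obtain ⟨g, hg, hgj⟩ := h j
    exact hgj (by rw [← hij]; exact hg i hlt)
  · obtain ⟨g, hg, hgi⟩ := h i
    exact hgi (by rw [hij]; exact hg j hlt)

lemma isIrredSeq_snoc {t : ℕ} {f : Fin t → Ω} (h : IsIrredSeq G f) {y : Ω}
    (hy : ∃ g : G, (∀ i, g • f i = f i) ∧ g • y ≠ y) : IsIrredSeq G (Fin.snoc f y : Fin (t + 1) → Ω) := by
  intro i
  induction i using Fin.lastCases with
  | last =>
    obtain ⟨g, hg, hgy⟩ := hy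
    refine ⟨g, fun j hj => ?_, by simpa using hgy⟩
    induction j using Fin.lastCases with
    | last => exact absurd hj (lt_irrefl _)
    | cast j => simpa using hg j
  | cast i =>
    obtain ⟨g, hg, hgi⟩ := h i
    refine ⟨g, fun j hj => ?_, by simpa using hgi⟩
    induction j using Fin.lastCases with
    | last => exact absurd hj (not_lt.2 (Fin.le_last _))
    | cast j => simpa using hg j (Fin.castSucc_lt_castSucc_iff.1 hj)

section Closed

variable (hcl : ∀ (t : ℕ) (f : Fin t → Ω) (σ : Equiv.Perm (Fin t)), IsIrredBase G f → IsIrredBase G (f ∘ σ))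

include hcl in
lemma exists_last_witness {t : ℕ} {f : Fin t → Ω} (hf : IsIrredBase G f) (i : Fin t) :
    ∃ g : G, (∀ j, j ≠ i → g • f j = f j) ∧ g • f i ≠ f i := by
  cases t with
  | zero => exact i.elim0
  | succ t =>
    obtain ⟨g, hg, hgi⟩ := (hcl _ f (Equiv.swap i (Fin.last t)) hf).2 (Fin.last t)
    refine ⟨g, fun j hj => ?_, by simpa using hgi⟩
    have hlt : Equiv.swap i (Fin.last t) j < Fin.last t := by
      refine lt_of_le_of_ne (Fin.le_last _) fun h => hj ?_
      exact (Equiv.swap i (Fin.last t)).injective (by rw [h, Equiv.swap_apply_left])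
    simpa using hg _ hlt

variable [DecidableEq Ω]

include hcl in
lemma isMinBase_image {t : ℕ} {f : Fin t → Ω} (hf : IsIrredBase G f) :
    IsMinBase G (Finset.univ.image f) := by
  refine ⟨fun g hg => hf.1 g fun i => hg _ (Finset.mem_image_of_mem f (Finset.mem_univ i)), ?_⟩
  intro x hx
  obtain ⟨i, -, rfl⟩ := Finset.mem_image.1 hx
  obtain ⟨g, hg, hgi⟩ := exists_last_witness hcl hf i
  refine ⟨g, fun z hz hzi => ?_, hgi⟩
  obtain ⟨j, -, rfl⟩ := Finset.mem_image.1 hz
  exact hg j fun h => hzi (h ▸ rfl)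

include hcl in
lemma exchange {s s' : Finset Ω} (hs : IsMinBase G s) (hs' : ∀ g : G, (∀ z ∈ s', g • z = z) → g = 1)
    {x : Ω} (hx : x ∈ s) : ∃ y ∈ s', y ∉ s.erase x ∧ IsMinBase G (insert y (s.erase x)) := by
  classical
  let u := s.erase x
  have hu : ∀ z, z ∈ u ↔ z ≠ x ∧ z ∈ s := fun z => Finset.mem_erase
  obtain ⟨g, hg, hgx⟩ := hs.2 x hx
  obtain ⟨y, hy, hgy⟩ : ∃ y ∈ s', g • y ≠ y := by
    by_contra hcon
    push Not at hcon
    exact hgx (by rw [hs' g hcon, one_smul])
  have hyu : y ∉ u := fun h => hgy (hg y ((hu y).1 h).2 ((hu y).1 h).1)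
  let f : Fin u.card → Ω := fun i => (u.equivFin.symm i : Ω)
  have hrange : ∀ z, (∃ i, f i = z) ↔ z ∈ u :=
    fun z => ⟨fun ⟨i, hi⟩ => hi ▸ (u.equivFin.symm i).2, fun hz => ⟨u.equivFin ⟨z, hz⟩, by simp [f]⟩⟩
  have hfirr : IsIrredSeq G f := by
    intro i
    obtain ⟨h, hh, hhi⟩ := hs.2 (f i) ((hu _).1 ((hrange _).1 ⟨i, rfl⟩)).2
    refine ⟨h, fun j hj => hh _ ((hu _).1 ((hrange _).1 ⟨j, rfl⟩)).2 fun he => ?_, hhi⟩
    exact hj.ne (u.equivFin.symm.injective (Subtype.ext he))
  have hfy : IsIrredSeq G (Fin.snoc f y : Fin (u.card + 1) → Ω) :=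
    isIrredSeq_snoc hfirr ⟨g, fun i => by
      have := (hu _).1 ((hrange _).1 ⟨i, rfl⟩)
      exact hg _ this.2 this.1, hgy⟩
  by_cases hT : ∃ h : G, (∀ i, h • (Fin.snoc f y : Fin (u.card + 1) → Ω) i = (Fin.snoc f y : Fin (u.card + 1) → Ω) i) ∧ h • x ≠ x
  · exfalso
    set f' : Fin (u.card + 1 + 1) → Ω := Fin.snoc (Fin.snoc f y : Fin (u.card + 1) → Ω) x with hf'
    have hbase : IsBaseSeq G f' := by
      intro h hh
      refine hs.1 h fun z hz => ?_
      rcases eq_or_ne z x with rfl | hne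
      · simpa [hf'] using hh (Fin.last _)
      · obtain ⟨i, rfl⟩ := (hrange z).2 ((hu z).2 ⟨hne, hz⟩)
        simpa [hf'] using hh i.castSucc.castSucc
    obtain ⟨h, hh, hhy⟩ := exists_last_witness hcl (f := f') ⟨hbase, isIrredSeq_snoc hfy hT⟩
      (Fin.last u.card).castSucc
    refine hhy ?_
    have hfix : ∀ z ∈ s, h • z = z := by
      intro z hz
      rcases eq_or_ne z x with rfl | hne
      · simpa [hf'] using hh (Fin.last _) (Fin.castSucc_lt_last _).ne'
      · obtain ⟨i, rfl⟩ := (hrange z).2 ((hu z).2 ⟨hne, hz⟩)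
        simpa [hf'] using hh i.castSucc.castSucc
          (fun he => (Fin.castSucc_lt_last i).ne (Fin.castSucc_injective _ he))
    rw [hs.1 h hfix, one_smul]
  · push Not at hT
    refine ⟨y, hy, hyu, ?_⟩
    have hb : IsBaseSeq G (Fin.snoc f y : Fin (u.card + 1) → Ω) := by
      intro h hh
      refine hs.1 h fun z hz => ?_
      rcases eq_or_ne z x with rfl | hne
      · exact hT h hh
      · obtain ⟨i, rfl⟩ := (hrange z).2 ((hu z).2 ⟨hne, hz⟩)
        simpa using hh i.castSucc
    have himg : Finset.univ.image (Fin.snoc f y : Fin (u.card + 1) → Ω) = insert y u := by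
      ext z
      simp only [Finset.mem_image, Finset.mem_univ, true_and, Finset.mem_insert, Fin.exists_fin_succ',
        Fin.snoc_castSucc, Fin.snoc_last, hrange]
      rw [eq_comm (a := y), or_comm]
    simpa [himg] using isMinBase_image hcl ⟨hb, hfy⟩

include hcl in
lemma card_eq_of_isMinBase {s s' : Finset Ω} (hs : IsMinBase G s) (hs' : IsMinBase G s') :
    s.card = s'.card := by
  induction h : (s \ s').card using Nat.strong_induction_on generalizing s with
  | _ k ih =>
    by_cases hsub : s ⊆ s'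
    · congr 1
      refine Finset.Subset.antisymm hsub fun x hx => by_contra fun hxs => ?_
      obtain ⟨g, hg, hgx⟩ := hs'.2 x hx
      exact hgx (by rw [hs.1 g fun z hz => hg z (hsub hz) fun he => hxs (he ▸ hz), one_smul])
    · obtain ⟨x, hx, hx'⟩ := Finset.not_subset.1 hsub
      obtain ⟨y, hy, hyu, hmin⟩ := exchange hcl hs hs'.1 hx
      have hcard : (insert y (s.erase x)).card = s.card := by
        rw [Finset.card_insert_of_notMem hyu, Finset.card_erase_add_one hx]
      rw [← hcard]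
      refine ih _ ?_ hmin rfl
      rw [← h, Finset.insert_sdiff_of_mem _ hy]
      exact Finset.card_lt_card <| (Finset.ssubset_iff_of_subset
        (Finset.sdiff_subset_sdiff (Finset.erase_subset _ _) le_rfl)).2
        ⟨x, Finset.mem_sdiff.2 ⟨hx, hx'⟩, by simp⟩

include hcl in
theorem length_eq {t t' : ℕ} {f : Fin t → Ω} {f' : Fin t' → Ω} (hf : IsIrredBase G f)
    (hf' : IsIrredBase G f') : t = t' := by
  have h := card_eq_of_isMinBase hcl (isMinBase_image hcl hf) (isMinBase_image hcl hf')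
  rwa [Finset.card_image_of_injective _ (injective_of_isIrredSeq hf.2),
    Finset.card_image_of_injective _ (injective_of_isIrredSeq hf'.2), Finset.card_univ, Finset.card_univ,
    Fintype.card_fin, Fintype.card_fin] at h

end Closed

theorem reorder_closed
    (heq : ∀ (t t' : ℕ) (f : Fin t → Ω) (f' : Fin t' → Ω), IsIrredBase G f → IsIrredBase G f' → t = t')
    {t : ℕ} {f : Fin t → Ω} (σ : Equiv.Perm (Fin t)) (hf : IsIrredBase G f) : IsIrredBase G (f ∘ σ) := by
  classical
  set h := f ∘ σ with hh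
  have hbase : IsBaseSeq G h := fun g hg => hf.1 g fun i => by simpa [hh] using hg (σ.symm i)
  refine ⟨hbase, ?_⟩
  let keep : Finset (Fin t) :=
    Finset.univ.filter fun i => ∃ g : G, (∀ j, j < i → g • h j = h j) ∧ g • h i ≠ h i
  have hkey : ∀ g : G, ∀ i : Fin t, (∀ j ∈ keep, j ≤ i → g • h j = h j) → g • h i = h i := by
    intro g i
    induction hn : (i : ℕ) using Nat.strong_induction_on generalizing i with
    | _ n ih =>
      intro hfix
      by_contra hne
      have hprev : ∀ j, j < i → g • h j = h j := fun j hj =>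
        ih j (hn ▸ hj) j rfl fun l hl hle => hfix l hl (hle.trans hj.le)
      exact hne (hfix i (Finset.mem_filter.2 ⟨Finset.mem_univ _, g, hprev, hne⟩) le_rfl)
  let e := keep.orderEmbOfFin rfl
  have hmem : ∀ j ∈ keep, ∃ a, e a = j := fun j hj => by
    have : j ∈ Set.range e := by rw [Finset.range_orderEmbOfFin]; exact hj
    exact this
  have hsub : IsIrredBase G (h ∘ e) := by
    refine ⟨fun g hg => hbase g fun i => hkey g i fun j hj _ => ?_, fun a => ?_⟩
    · obtain ⟨a, rfl⟩ := hmem j hj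
      exact hg a
    · obtain ⟨g, hg, hgne⟩ := (Finset.mem_filter.1 (Finset.orderEmbOfFin_mem keep rfl a)).2
      exact ⟨g, fun b hb => hg _ (e.strictMono hb), hgne⟩
  have hcard := heq _ _ _ _ hsub hf
  intro i
  have hi : i ∈ keep := by
    rw [Finset.eq_univ_of_card keep (by rw [hcard, Fintype.card_fin])]
    exact Finset.mem_univ i
  exact (Finset.mem_filter.1 hi).2

end CfsgLib.Ibis
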